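import Mathlib.GroupTheory.Coset.Card
import Mathlib.GroupTheory.QuotientGroup.Basic
import Mathlib.Tactic.FinCases

/-!
Compatible maps on three subgroups of a group, lifts along the cosets of two of them, and the rule for a closed
chain of eight edges inside the third.
-/

set_option autoImplicit false
set_option linter.unusedSectionVars false

namespace Cfsg.Agent.MTwentyThree.Amal

variable (M G : Type*) [Group M] [Group G]

/-- Three subgroups with compatible homomorphisms. -/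
structure Frame where
  H : Subgroup M
  K : Subgroup M
  L : Subgroup M
  fH : H →* G
  fK : K →* G
  fL : L →* G
  hk : ∀ x (h : x ∈ H) (k : x ∈ K), fH ⟨x, h⟩ = fK ⟨x, k⟩
  hl : ∀ x (h : x ∈ H) (l : x ∈ L), fH ⟨x, h⟩ = fL ⟨x, l⟩
  kl : ∀ x (k : x ∈ K) (l : x ∈ L), fK ⟨x, k⟩ = fL ⟨x, l⟩

variable {M G}

/-- Equivariant functions on the two kinds of cosets. -/
structure Lifts (F : Frame M G) where
  lH : M → G
  lK : M → G
  mulH : ∀ x, ∀ a : F.H, lH (x * a) = lH x * F.fH a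
  mulK : ∀ x, ∀ a : F.K, lK (x * a) = lK x * F.fK a

variable {F : Frame M G}

theorem exists_equivariant (H : Subgroup M) (f : H →* G) :
    ∃ l : M → G, ∀ x, ∀ a : H, l (x * a) = l x * f a := by
  refine ⟨fun x => f ⟨(Quotient.out (x : M ⧸ H))⁻¹ * x, QuotientGroup.eq.mp (Quotient.out_eq _)⟩, fun x a => ?_⟩
  have e : ((x * a : M) : M ⧸ H) = (x : M ⧸ H) := QuotientGroup.eq.mpr (by simp [mul_assoc])
  simp only [e]
  rw [← map_mul]
  congr 1
  ext
  simp [mul_assoc]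

theorem exists_lifts (F : Frame M G) : Nonempty (Lifts F) := by
  obtain ⟨a, ha⟩ := exists_equivariant F.H F.fH
  obtain ⟨b, hb⟩ := exists_equivariant F.K F.fK
  exact ⟨⟨a, b, ha, hb⟩⟩

/-- The lifts agree on an edge. -/
def Lifts.Good (l : Lifts F) (x : M) : Prop := l.lH x = l.lK x

theorem Lifts.good_mul (l : Lifts F) {x i : M} (hg : l.Good x) (hH : i ∈ F.H) (hK : i ∈ F.K) :
    l.Good (x * i) := by
  show l.lH (x * i) = l.lK (x * i)
  rw [l.mulH x ⟨i, hH⟩, l.mulK x ⟨i, hK⟩, hg, F.hk i hH hK]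

theorem Lifts.good_congr (l : Lifts F) {x y : M} (hH : x⁻¹ * y ∈ F.H) (hK : x⁻¹ * y ∈ F.K) (hg : l.Good x) :
    l.Good y := by
  have h := l.good_mul hg hH hK
  rwa [mul_inv_cancel_left] at h

/-- Correct the lift on one coset of the first subgroup. -/
theorem Lifts.adjustH (l : Lifts F) (v : M) :
    ∃ l' : Lifts F, l'.Good v ∧ ∀ x, x⁻¹ * v ∉ F.H → (l'.Good x ↔ l.Good x) := by
  classical
  have hinv : ∀ x : M, ∀ a : F.H, ((x * a)⁻¹ * v ∈ F.H ↔ x⁻¹ * v ∈ F.H) := fun x a => by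
    rw [mul_inv_rev, mul_assoc]
    exact Subgroup.mul_mem_cancel_left _ (inv_mem a.2)
  refine ⟨⟨fun x => if x⁻¹ * v ∈ F.H then l.lK v * (l.lH v)⁻¹ * l.lH x else l.lH x, l.lK,
    fun x a => ?_, l.mulK⟩, ?_, fun x hx => ?_⟩
  · simp only [hinv x a, l.mulH x a]
    split <;> simp [mul_assoc]
  · show (if v⁻¹ * v ∈ F.H then l.lK v * (l.lH v)⁻¹ * l.lH v else l.lH v) = l.lK v
    simp
  · show (if x⁻¹ * v ∈ F.H then l.lK v * (l.lH v)⁻¹ * l.lH x else l.lH x) = l.lK x ↔ _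
    rw [if_neg hx]
    rfl

/-- Correct the lift on one coset of the second subgroup. -/
theorem Lifts.adjustK (l : Lifts F) (v : M) :
    ∃ l' : Lifts F, l'.Good v ∧ ∀ x, x⁻¹ * v ∉ F.K → (l'.Good x ↔ l.Good x) := by
  classical
  have hinv : ∀ x : M, ∀ a : F.K, ((x * a)⁻¹ * v ∈ F.K ↔ x⁻¹ * v ∈ F.K) := fun x a => by
    rw [mul_inv_rev, mul_assoc]
    exact Subgroup.mul_mem_cancel_left _ (inv_mem a.2)
  refine ⟨⟨l.lH, fun x => if x⁻¹ * v ∈ F.K then l.lH v * (l.lK v)⁻¹ * l.lK x else l.lK x,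
    l.mulH, fun x a => ?_⟩, ?_, fun x hx => ?_⟩
  · simp only [hinv x a, l.mulK x a]
    split <;> simp [mul_assoc]
  · show l.lH v = (if v⁻¹ * v ∈ F.K then l.lH v * (l.lK v)⁻¹ * l.lK v else l.lK v)
    simp
  · show l.lH x = (if x⁻¹ * v ∈ F.K then l.lH v * (l.lK v)⁻¹ * l.lK x else l.lK x) ↔ _
    rw [if_neg hx]
    rfl

/-- Eight edges going round inside the third subgroup. -/
structure Ring (F : Frame M G) (l : Fin 8 → M) : Prop where
  mem : ∀ i, l i ∈ F.L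
  s01 : (l 0)⁻¹ * l 1 ∈ F.H
  s12 : (l 1)⁻¹ * l 2 ∈ F.K
  s23 : (l 2)⁻¹ * l 3 ∈ F.H
  s34 : (l 3)⁻¹ * l 4 ∈ F.K
  s45 : (l 4)⁻¹ * l 5 ∈ F.H
  s56 : (l 5)⁻¹ * l 6 ∈ F.K
  s67 : (l 6)⁻¹ * l 7 ∈ F.H
  s70 : (l 7)⁻¹ * l 0 ∈ F.K

theorem Lifts.ring (l : Lifts F) {e : Fin 8 → M} (R : Ring F e) (m : M) {r : Fin 8}
    (hg : ∀ i, i ≠ r → l.Good (m * e i)) : l.Good (m * e r) := by
  let cH : Fin 8 → G := fun i => l.lH (m * e i) * (F.fL ⟨e i, R.mem i⟩)⁻¹
  let cK : Fin 8 → G := fun i => l.lK (m * e i) * (F.fL ⟨e i, R.mem i⟩)⁻¹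
  have hs : ∀ {i j : Fin 8}, (e i)⁻¹ * e j ∈ F.H → cH i = cH j := fun {i j} h => by
    have hL : (e i)⁻¹ * e j ∈ F.L := mul_mem (inv_mem (R.mem i)) (R.mem j)
    have e1 : F.fL ⟨e j, R.mem j⟩ = F.fL ⟨e i, R.mem i⟩ * F.fH ⟨_, h⟩ := by
      rw [F.hl _ h hL, ← map_mul]
      congr 1
      ext
      simp
    have e2 : l.lH (m * e j) = l.lH (m * e i) * F.fH ⟨_, h⟩ := by
      rw [← l.mulH]
      congr 1
      simp [mul_assoc]
    simp [cH, e1, e2, mul_assoc]
  have hk : ∀ {i j : Fin 8}, (e i)⁻¹ * e j ∈ F.K → cK i = cK j := fun {i j} h => by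
    have hL : (e i)⁻¹ * e j ∈ F.L := mul_mem (inv_mem (R.mem i)) (R.mem j)
    have e1 : F.fL ⟨e j, R.mem j⟩ = F.fL ⟨e i, R.mem i⟩ * F.fK ⟨_, h⟩ := by
      rw [F.kl _ h hL, ← map_mul]
      congr 1
      ext
      simp
    have e2 : l.lK (m * e j) = l.lK (m * e i) * F.fK ⟨_, h⟩ := by
      rw [← l.mulK]
      congr 1
      simp [mul_assoc]
    simp [cK, e1, e2, mul_assoc]
  have hc : ∀ i, i ≠ r → cH i = cK i := fun i hi => by
    show _ * _ = _ * _
    rw [hg i hi]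
  suffices cH r = cK r from mul_right_cancel this
  have := hs R.s01; have := hk R.s12; have := hs R.s23; have := hk R.s34
  have := hs R.s45; have := hk R.s56; have := hs R.s67; have := hk R.s70
  fin_cases r <;> simp only [Fin.forall_fin_succ, Fin.forall_fin_zero] at hc <;> simp_all <;> grind

/-- If all edges are good, the maps extend to the whole group. -/
theorem Lifts.exists_hom (l : Lifts F) (hall : ∀ x, l.Good x) (hgen : F.H ⊔ F.K = ⊤) :
    ∃ f : M →* G, (∀ a : F.H, f a = F.fH a) ∧ ∀ a : F.K, f a = F.fK a := by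
  let p : M → G := fun x => (l.lH 1)⁻¹ * l.lH x
  have p1 : p 1 = 1 := by simp [p]
  have pH : ∀ x (a : F.H), p (x * a) = p x * F.fH a := fun x a => by simp [p, l.mulH, mul_assoc]
  have pK : ∀ x (a : F.K), p (x * a) = p x * F.fK a := fun x a => by
    have e1 : l.lH (x * a) = l.lH x * F.fK a := by rw [hall, l.mulK, ← hall]
    simp [p, e1, mul_assoc]
  have fh : ∀ a : F.H, p a = F.fH a := fun a => by simpa [p1] using pH 1 a
  have fk : ∀ a : F.K, p a = F.fK a := fun a => by simpa [p1] using pK 1 a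
  let S : Subgroup M :=
    { carrier := {a | ∀ x, p (x * a) = p x * p a}
      one_mem' := fun x => by simp [p1]
      mul_mem' := fun {a b} ha hb x => by rw [← mul_assoc, hb, ha, hb a, mul_assoc]
      inv_mem' := fun {a} ha x => by
        have h1 := ha (x * a⁻¹)
        have h2 := ha a⁻¹
        rw [inv_mul_cancel_right] at h1
        rw [inv_mul_cancel, p1] at h2
        rw [eq_inv_of_mul_eq_one_left h2.symm, h1, mul_inv_cancel_right] }
  have hS : ⊤ ≤ S := hgen ▸ sup_le (fun a ha x => by rw [pH x ⟨a, ha⟩, fh ⟨a, ha⟩])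
    (fun a ha x => by rw [pK x ⟨a, ha⟩, fk ⟨a, ha⟩])
  exact ⟨MonoidHom.mk' p fun a b => hS (Subgroup.mem_top b) a, fh, fk⟩

end Cfsg.Agent.MTwentyThree.Amal
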