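import Cfsg.Agent.Lib.Local.FS.MathieuPerms
import Cfsg.Agent.Lib.Spor.MTwentyThreeAmal.Amalgam

/-!
Checks for the elimination of the edges joining heptads and triples, and their soundness.
-/

set_option autoImplicit false
set_option linter.unusedSectionVars false
set_option linter.style.haveILetI false

namespace Cfsg.Agent.MTwentyThree.Amal

open Cfsg Cfsg.Agent.Spor Cfsg.Agent.Local.FS.Mathieu
open scoped Pointwise

/-- An entry of a packed image list. -/
def ent (a i : ℕ) : ℕ := (a >>> (5 * i)) &&& 31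

/-- The image list of a packed one. -/
def unpack (a : ℕ) : List ℕ := (List.range 24).map (ent a)

/-- The mask of the images of some points. -/
def imgMask (a : ℕ) (P : List ℕ) : ℕ := P.foldr (fun p r => r ||| (1 <<< ent a p)) 0

/-- The packed list is a member of the stabiliser of the last point in the automorphisms of the code. -/
def okPerm (a : ℕ) : Bool :=
  inCode (unpack a) && ((unpack a).getD 23 0 == 23) && (pmask (unpack a) 16777215 == 16777215)

/-- An entry of a packed table: 24 bits each, 512 to a chunk. -/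
def get2 (T : List ℕ) (i : ℕ) : ℕ := ((T.getD (i / 512) 0) >>> (24 * (i % 512))) &&& 16777215

/-- An entry of a packed table: 128 bits each, 64 to a chunk. -/
def get3 (T : List ℕ) (i : ℕ) : ℕ :=
  ((T.getD (i / 64) 0) >>> (128 * (i % 64))) &&& 340282366920938463463374607431768211455

theorem testBit_imgMask (a : ℕ) (j : ℕ) : ∀ P : List ℕ,
    Nat.testBit (imgMask a P) j = true ↔ ∃ p ∈ P, ent a p = j
  | [] => by simp [imgMask]
  | p :: P => by
    have h := testBit_imgMask a j P
    simp only [imgMask, List.foldr_cons, Nat.one_shiftLeft] at h ⊢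
    simp [h, Nat.testBit_or, Nat.testBit_two_pow, or_comm]

theorem getD_unpack (a : ℕ) {i : ℕ} (hi : i < 24) : (unpack a).getD i 0 = ent a i := by
  rw [unpack, List.getD_eq_getElem _ _ (by simpa using hi)]
  simp

theorem lt_of_code (a : ℕ) (h : pmask (unpack a) 16777215 = 16777215) (i : Fin 24) : ent a i < 24 := by
  by_contra hn
  have hb : Nat.testBit (16777215 : ℕ) (ent a i) = true := by
    rw [← h, testBit_pmask]
    refine ⟨i, i.2, ?_, getD_unpack a i.2⟩
    exact (by decide +kernel : ∀ i : Fin 24, Nat.testBit (16777215 : ℕ) i = true) i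
  rw [show (16777215 : ℕ) = 2 ^ 24 - 1 from rfl, Nat.testBit_two_pow_sub_one] at hb
  simp at hb
  omega

theorem exists_of_ok {a : ℕ} (h : okPerm a = true) :
    ∃ x : ↥Spor.M23, ∀ p : GolayPt, idx ((x : Equiv.Perm GolayPt) p) = ent a (idx p) := by
  simp only [okPerm, Bool.and_eq_true, beq_iff_eq] at h
  obtain ⟨⟨h1, h23⟩, hfull⟩ := h
  have hlt : ∀ p : GolayPt, ent a (idx p) < 24 := fun p => lt_of_code a hfull ⟨idx p, idx_lt p⟩
  have hsur : Function.Surjective fun p : GolayPt => pt (ent a (idx p)) := fun q => by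
    have hb : Nat.testBit (pmask (unpack a) 16777215) (idx q) = true := by
      rw [hfull, show (16777215 : ℕ) = 2 ^ 24 - 1 from rfl, Nat.testBit_two_pow_sub_one]
      simpa using idx_lt q
    obtain ⟨i, hi, -, e⟩ := (testBit_pmask _ _ _).mp hb
    rw [getD_unpack a hi] at e
    exact ⟨pt i, by show pt (ent a (idx (pt i))) = q; rw [idx_pt i hi, e, pt_idx]⟩
  let σ := Equiv.ofBijective _ ⟨Finite.injective_iff_surjective.mpr hsur, hsur⟩
  have hval : ∀ p : GolayPt, idx (σ p) = ent a (idx p) := fun p => idx_pt _ (hlt p)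
  have hl : lst σ = unpack a := List.map_congr_left fun i hi => by
    rw [hval, idx_pt i (List.mem_range.mp hi)]
  exact ⟨⟨σ, m23_mem_of_lst (by rw [hl, h1, h23]; rfl)⟩, hval⟩

/-- The points of a list. -/
def setOf' (P : List ℕ) : Finset GolayPt := (P.map pt).toFinset

theorem mask_smul_list {a : ℕ} {x : ↥Spor.M23}
    (hx : ∀ p : GolayPt, idx ((x : Equiv.Perm GolayPt) p) = ent a (idx p)) {P : List ℕ} (hP : ∀ p ∈ P, p < 24) :
    mask ((x : Equiv.Perm GolayPt) • setOf' P) = imgMask a P ∧
      (x : Equiv.Perm GolayPt) • setOf' P = setOf' (P.map (ent a)) := by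
  have h2 : (x : Equiv.Perm GolayPt) • setOf' P = setOf' (P.map (ent a)) := by
    ext q
    simp only [smul_finset_eq_image, setOf', Finset.mem_image, List.mem_toFinset, List.mem_map]
    constructor
    · rintro ⟨_, ⟨p, hp, rfl⟩, rfl⟩
      exact ⟨_, ⟨p, hp, rfl⟩, by rw [← pt_idx ((x : Equiv.Perm GolayPt) (pt p)), hx, idx_pt p (hP p hp)]⟩
    · rintro ⟨_, ⟨p, hp, rfl⟩, rfl⟩
      exact ⟨pt p, ⟨p, hp, rfl⟩, by rw [← pt_idx ((x : Equiv.Perm GolayPt) (pt p)), hx, idx_pt p (hP p hp)]⟩
  refine ⟨?_, h2⟩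
  apply Nat.eq_of_testBit_eq
  intro j
  apply Bool.eq_iff_iff.2
  rw [testBit_mask, testBit_imgMask]
  constructor
  · rintro ⟨q, hq, rfl⟩
    simp only [smul_finset_eq_image, setOf', Finset.mem_image, List.mem_toFinset, List.mem_map] at hq
    obtain ⟨_, ⟨p, hp, rfl⟩, rfl⟩ := hq
    exact ⟨p, hp, by rw [hx, idx_pt p (hP p hp)]⟩
  · rintro ⟨p, hp, rfl⟩
    refine ⟨(x : Equiv.Perm GolayPt) (pt p), ?_, by rw [hx, idx_pt p (hP p hp)]⟩
    rw [smul_finset_eq_image]
    exact Finset.mem_image_of_mem _ (List.mem_toFinset.mpr (List.mem_map_of_mem hp))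

end Cfsg.Agent.MTwentyThree.Amal
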