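import Cfsg.Agent.Lib.Spor.MTwentyThreeAmal.Elim
import Cfsg.Agent.Lib.Spor.MathieuTriples

/-!
The certified edges are closed under four generators, so the compatible maps extend to the whole Mathieu group.
-/

set_option autoImplicit false
set_option linter.unusedSectionVars false
set_option linter.style.haveILetI false

namespace Cfsg.Agent.MTwentyThree.Amal

open Cfsg Cfsg.Agent.Spor Cfsg.Agent.Local.FS.Mathieu
open scoped Pointwise

/-- A generator: packed list, order, images of the two kinds of vertices and of the edges. -/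
structure Gen where
  a : ℕ
  p : ℕ
  hs : List ℕ
  ts : List ℕ
  es : List ℕ

namespace Gen

variable (D : Tabs) (g : Gen)

def cyc : Bool :=
  ((List.range 24).all fun i => ((ent g.a)^[g.p]) i == i) && !((List.range 24).all fun i => ent g.a i == i)

def vertsOK : Bool :=
  okPerm g.a &&
  ((List.range 253).all fun i => decide (get2 g.hs i < 253) &&
    pmask (unpack g.a) (get2 D.VH i) == get2 D.VH (get2 g.hs i)) &&
  ((List.range 1771).all fun i => decide (get2 g.ts i < 1771) &&
    pmask (unpack g.a) (get2 D.VT i) == get2 D.VT (get2 g.ts i))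

def edgeOK (i : ℕ) : Bool :=
  decide (D.hid i < 253) && decide (D.tid i < 1771) && decide (get2 g.es i < 8855) &&
    (D.hid (get2 g.es i) == get2 g.hs (D.hid i)) && (D.tid (get2 g.es i) == get2 g.ts (D.tid i))

/-- The checks of one generator. -/
structure OK : Prop where
  verts : g.vertsOK D = true
  cycle : g.cyc = true
  edges : ∀ i < 8855, g.edgeOK D i = true

variable {D g}

theorem exists_elem (h : g.OK D) (hp : g.p.Prime) :
    ∃ x : M, orderOf (x : Equiv.Perm GolayPt) = g.p ∧ ∀ i < 8855, ∀ y, D.Real i y → D.Real (get2 g.es i) (x * y) := by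
  have hv := h.verts
  simp only [vertsOK, Bool.and_eq_true, List.all_eq_true, List.mem_range, decide_eq_true_eq, beq_iff_eq] at hv
  obtain ⟨x, hx⟩ := exists_of_ok hv.1.1
  have hrep : Rep (x : Equiv.Perm GolayPt) (unpack g.a) := fun p => by rw [getD_unpack _ (idx_lt p), hx]
  refine ⟨x, ?_, fun i hi y hy => ?_⟩
  · have hc := h.cycle
    simp only [cyc, Bool.and_eq_true, List.all_eq_true, List.mem_range, beq_iff_eq] at hc
    have hpow : ∀ (n : ℕ) (p : GolayPt), idx (((x : Equiv.Perm GolayPt) ^ n) p) = ((ent g.a)^[n]) (idx p) := by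
      intro n
      induction n with
      | zero => simp
      | succ n ih => intro p; rw [pow_succ', Equiv.Perm.mul_apply, hx, ih, Function.iterate_succ_apply']
    haveI : Fact g.p.Prime := ⟨hp⟩
    refine orderOf_eq_prime (Equiv.ext fun p => idx_injective ?_) fun e => ?_
    · rw [hpow, hc.1 _ (idx_lt p)]; rfl
    · have hn := hc.2
      simp only [Bool.not_eq_true', ← Bool.not_eq_true, List.all_eq_true, List.mem_range, beq_iff_eq] at hn
      refine hn fun i hi => ?_
      have := hx (pt i)
      rw [e, idx_pt i hi] at this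
      simpa [idx_pt i hi] using this.symm
  · have he := h.edges i hi
    simp only [edgeOK, Bool.and_eq_true, decide_eq_true_eq, beq_iff_eq] at he
    have key : ∀ P, fm P (x * y) = pmask (unpack g.a) (fm P y) := fun P => by
      rw [fm, Subgroup.coe_mul, mul_smul, hrep.mask_smul]; rfl
    constructor
    · rw [key, hy.1, Tabs.hmask, (hv.1.2 _ he.1.1.1.1).2, Tabs.hmask, he.1.2]
    · rw [key, hy.2, Tabs.tmask, (hv.2 _ he.1.1.1.2).2, Tabs.tmask, he.2]

end Gen

variable {D : Tabs} {G : Type*} [Group G] {F : Frame M G}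

theorem exists_hom_of_inv {c : ℕ × ℕ} (I : D.Inv F 8855 c) (gs : List Gen) (hgs : ∀ g ∈ gs, g.OK D)
    (hord : gs.map (fun g => g.p) = MathieuTriples.witOrd) :
    ∃ f : M →* G, (∀ a : F.H, f a = F.fH a) ∧ ∀ a : F.K, f a = F.fK a := by
  obtain ⟨l, hl⟩ := I.lift
  let S : Set M := {x | ∀ i < 8855, ∀ y, D.Real i y → ∃ j < 8855, D.Real j (x * y)}
  have hprime : ∀ p ∈ MathieuTriples.witOrd, p.Prime := by
    simp only [MathieuTriples.witOrd, List.forall_mem_cons, List.not_mem_nil, IsEmpty.forall_iff, implies_true]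
    norm_num
  let T : Subgroup M := Subgroup.closure {x | ∃ g ∈ gs, orderOf (x : Equiv.Perm GolayPt) = g.p ∧
    ∀ i < 8855, ∀ y, D.Real i y → D.Real (get2 g.es i) (x * y)}
  have hT : T = ⊤ := by
    apply MathieuTriples.eq_top_of_elements
    intro p hp
    obtain ⟨g, hg, rfl⟩ := List.mem_map.mp (hord ▸ hp)
    obtain ⟨x, h1, h2⟩ := Gen.exists_elem (hgs g hg) (hprime _ hp)
    exact ⟨x, Subgroup.subset_closure ⟨g, hg, h1, h2⟩, h1⟩
  let St : Submonoid M :=
    { carrier := S
      one_mem' := fun i hi y hy => ⟨i, hi, by rwa [one_mul]⟩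
      mul_mem' := fun {a b} ha hb i hi y hy => by
        obtain ⟨j, hj, hjr⟩ := hb i hi y hy
        rw [mul_assoc]
        exact ha j hj _ hjr }
  have hS : ∀ x : M, x ∈ S := fun x => by
    have hx : x ∈ T := hT ▸ Subgroup.mem_top x
    rw [← Subgroup.mem_toSubmonoid, Subgroup.closure_toSubmonoid_of_finite] at hx
    refine (Submonoid.closure_le (S := St)).mpr ?_ hx
    rintro y ⟨g, hg, -, hy⟩ i hi z hz
    refine ⟨_, ?_, hy i hi z hz⟩
    have he := (hgs g hg).edges i hi
    simp only [Gen.edgeOK, Bool.and_eq_true, decide_eq_true_eq] at he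
    exact he.1.1.2
  have hall : ∀ x, l.Good x ∧ x ∈ F.H ⊔ F.K := fun x => by
    obtain ⟨y, hy⟩ := I.real 0 (by norm_num)
    obtain ⟨j, hj, hjr⟩ := hS (x * y⁻¹) 0 (by norm_num) y hy
    exact hl j hj x (by rwa [inv_mul_cancel_right] at hjr)
  exact l.exists_hom (fun x => (hall x).1) (eq_top_iff.mpr fun x _ => (hall x).2)

end Cfsg.Agent.MTwentyThree.Amal
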