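import Cfsg.Agent.Lib.Spor.MTwentyThreeAmal.Check

/-!
Members of the Mathieu group from packed image lists.
-/

set_option autoImplicit false
set_option linter.unusedSectionVars false

namespace Cfsg.Agent.MTwentyThree.Amal

open Cfsg Cfsg.Agent.Spor
open scoped Classical

/-- The member with a packed image list. -/
noncomputable def toM (a : ℕ) : ↥Spor.M23 := if h : okPerm a = true then (exists_of_ok h).choose else 1

theorem toM_spec {a : ℕ} (h : okPerm a = true) :
    ∀ p : GolayPt, idx ((toM a : Equiv.Perm GolayPt) p) = ent a (idx p) := by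
  rw [toM, dif_pos h]
  exact (exists_of_ok h).choose_spec

theorem ext_ent {x y : ↥Spor.M23}
    (h : ∀ p : GolayPt, idx ((x : Equiv.Perm GolayPt) p) = idx ((y : Equiv.Perm GolayPt) p)) : x = y :=
  Subtype.ext (Equiv.ext fun p => idx_injective (h p))

/-- Two packed lists give the same map. -/
def entEq (f : ℕ → ℕ) (g : ℕ → ℕ) : Bool := (List.range 24).all fun i => f i == g i

theorem toM_mul {a b c : ℕ} (ha : okPerm a = true) (hb : okPerm b = true) (hc : okPerm c = true)
    (h : entEq (fun i => ent a (ent b i)) (ent c) = true) : toM a * toM b = toM c := by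
  refine ext_ent fun p => ?_
  simp only [entEq, List.all_eq_true, List.mem_range, beq_iff_eq] at h
  rw [Subgroup.coe_mul, Equiv.Perm.mul_apply, toM_spec ha, toM_spec hb, h _ (idx_lt p), toM_spec hc]

theorem toM_comm {a b c d : ℕ} (ha : okPerm a = true) (hb : okPerm b = true) (hc : okPerm c = true)
    (hd : okPerm d = true) (h : entEq (fun i => ent a (ent b i)) (fun i => ent c (ent d i)) = true) :
    toM a * toM b = toM c * toM d := by
  refine ext_ent fun p => ?_
  simp only [entEq, List.all_eq_true, List.mem_range, beq_iff_eq] at h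
  rw [Subgroup.coe_mul, Subgroup.coe_mul, Equiv.Perm.mul_apply, Equiv.Perm.mul_apply, toM_spec ha, toM_spec hb,
    h _ (idx_lt p), toM_spec hc, toM_spec hd]

end Cfsg.Agent.MTwentyThree.Amal
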