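import Cfsg.Agent.Lib.Spor.MTwentyThreeAmal.Check

/-!
The elimination of edges: a state is advanced by growing one new vertex or by one closed chain of eight edges with
seven known members.
-/

set_option autoImplicit false
set_option linter.unusedSectionVars false
set_option linter.style.haveILetI false

namespace Cfsg.Agent.MTwentyThree.Amal

open Cfsg Cfsg.Agent.Spor Cfsg.Agent.Local.FS.Mathieu
open scoped Pointwise

abbrev M : Type := ↥Spor.M23

/-- The stabiliser of a set of points. -/
def stabOf (P : List ℕ) : Subgroup M :=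
  (MulAction.stabilizer (Equiv.Perm GolayPt) (setOf' P)).comap (Subgroup.subtype Spor.M23)

/-- The mask of the image of a set of points. -/
def fm (P : List ℕ) (x : M) : ℕ := mask ((x : Equiv.Perm GolayPt) • setOf' P)

theorem mem_stabOf {P : List ℕ} {x y : M} : x⁻¹ * y ∈ stabOf P ↔ fm P x = fm P y := by
  simp only [stabOf, Subgroup.mem_comap, MulAction.mem_stabilizer_iff, fm]
  constructor
  · intro h
    simp only [Subgroup.coe_subtype, Subgroup.coe_mul, Subgroup.coe_inv, mul_smul, inv_smul_eq_iff] at h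
    rw [h]
  · intro h
    have := mask_injective h
    simp [mul_smul, inv_smul_eq_iff, this]

/-- The tables. -/
structure Tabs where
  /-- packed representatives -/
  A : List ℕ
  /-- packed second factors -/
  N : List ℕ
  /-- the eight vertices of the closed chain -/
  base : List (List ℕ)
  /-- packed members of the chain -/
  S : List ℕ
  /-- masks of the first kind of vertices -/
  VH : List ℕ
  /-- masks of the second kind of vertices -/
  VT : List ℕ
  /-- edges -/
  ED : List ℕ

/-- The first vertex of an edge of the chain. -/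
def pH (j : ℕ) : ℕ := j / 2
/-- The second vertex of an edge of the chain. -/
def pT (j : ℕ) : ℕ := 4 + (j + 1) / 2 % 4

namespace Tabs

variable (D : Tabs)

def hid (i : ℕ) : ℕ := get2 D.ED i / 2048
def tid (i : ℕ) : ℕ := get2 D.ED i % 2048
def hmask (i : ℕ) : ℕ := get2 D.VH (D.hid i)
def tmask (i : ℕ) : ℕ := get2 D.VT (D.tid i)

def niAt (k : ℕ) : List (List ℕ) := D.base.map fun P => P.map (ent (get3 D.N k))

/-- The validity of one second factor. -/
def factOK (k : ℕ) : Bool := okPerm (get3 D.N k)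

/-- The validity of the chain. -/
def baseOK : Bool :=
  ((List.range 8).all fun v => (D.base.getD v []).all fun p => decide (p < 24)) &&
  (List.range 8).all fun j =>
    okPerm (D.S.getD j 0) &&
    (imgMask (D.S.getD j 0) (D.base.getD 0 []) == imgMask (pack (List.range 24)) (D.base.getD (pH j) [])) &&
    (imgMask (D.S.getD j 0) (D.base.getD 4 []) == imgMask (pack (List.range 24)) (D.base.getD (pT j) []))

/-- An edge of a translated chain agrees with a listed one. -/
def same (a : ℕ) (ni : List (List ℕ)) (j i : ℕ) : Bool :=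
  (imgMask a (ni.getD (pH j) []) == D.hmask i) && (imgMask a (ni.getD (pT j) []) == D.tmask i)

/-- One step. -/
def step (n : ℕ) (c : ℕ × ℕ) (s : ℕ × ℕ × ℕ × List ℕ) : Option (ℕ × ℕ) :=
  let a := get3 D.A s.1
  let ni := D.niAt s.2.1
  let j := s.2.2.1 % 8
  let refs := s.2.2.2
  let ok0 := decide (s.1 < 253) && decide (s.2.1 < 1152) && D.same a ni j n
  match s.2.2.1 / 8 with
  | 0 =>
    if ok0 && decide (D.hid n < c.1) && decide (D.tid n < c.2) &&
      ((List.range 8).all fun i => i == j || (decide (refs.getD i 0 < n) && D.same a ni i (refs.getD i 0)))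
    then some c else none
  | 1 =>
    if ok0 && (D.hid n == c.1) && decide (c.1 < 253) && decide (refs.getD 0 0 < n) &&
      (D.tid (refs.getD 0 0) == D.tid n)
    then some (c.1 + 1, c.2) else none
  | _ =>
    if ok0 && (D.tid n == c.2) && decide (c.2 < 1771) && decide (refs.getD 0 0 < n) &&
      (D.hid (refs.getD 0 0) == D.hid n)
    then some (c.1, c.2 + 1) else none

/-- Several steps. -/
def run : ℕ → ℕ × ℕ → List (ℕ × ℕ × ℕ × List ℕ) → Option (ℕ × ℕ)
  | _, c, [] => some c
  | n, c, s :: l => match D.step n c s with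
    | some c' => run (n + 1) c' l
    | none => none

/-- The hypotheses on the tables. -/
structure Valid : Prop where
  A_ok : ∀ i < 253, okPerm (get3 D.A i) = true
  N_ok : ∀ k < 1152, D.factOK k = true
  base_ok : D.baseOK = true
  VH_inj : ∀ i < 253, ∀ j < 253, get2 D.VH i = get2 D.VH j → i = j
  VT_inj : ∀ i < 1771, ∀ j < 1771, get2 D.VT i = get2 D.VT j → i = j

/-- An element realising a listed edge. -/
def Real (i : ℕ) (x : M) : Prop := fm (D.base.getD 0 []) x = D.hmask i ∧ fm (D.base.getD 4 []) x = D.tmask i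

/-- The elements of the chain. -/
def IsSeq (e : Fin 8 → M) : Prop := ∀ (j : Fin 8) (p : GolayPt),
  idx ((e j : Equiv.Perm GolayPt) p) = ent (D.S.getD j 0) (idx p)

variable {G : Type*} [Group G]

/-- The state after some steps. -/
structure Inv (F : Frame M G) (n : ℕ) (c : ℕ × ℕ) : Prop where
  cH : c.1 ≤ 253
  cT : c.2 ≤ 1771
  ids : ∀ i < n, D.hid i < c.1 ∧ D.tid i < c.2
  real : ∀ i < n, ∃ x, D.Real i x
  lift : ∃ l : Lifts F, ∀ i < n, ∀ x, D.Real i x → l.Good x ∧ x ∈ F.H ⊔ F.K

variable {D} {F : Frame M G} {e : Fin 8 → M}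

theorem ent_id : ∀ p : Fin 24, ent (pack (List.range 24)) p = p := by decide +kernel

theorem fm_mul {P : List ℕ} (hP : ∀ p ∈ P, p < 24) {a b : ℕ} {x y : M}
    (hx : ∀ p : GolayPt, idx ((x : Equiv.Perm GolayPt) p) = ent a (idx p))
    (hy : ∀ p : GolayPt, idx ((y : Equiv.Perm GolayPt) p) = ent b (idx p)) :
    fm P (x * y) = imgMask a (P.map (ent b)) := by
  have h2 := (mask_smul_list hy hP).2
  have hb : ∀ q ∈ P.map (ent b), q < 24 := fun q hq => by
    obtain ⟨p, hp, rfl⟩ := List.mem_map.mp hq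
    have := idx_lt ((y : Equiv.Perm GolayPt) (pt p))
    rwa [hy, idx_pt p (hP p hp)] at this
  rw [fm, Subgroup.coe_mul, mul_smul, h2]
  exact (mask_smul_list hx hb).1

theorem base_lt (V : D.Valid) {v : ℕ} (hv : v < 8) : ∀ p ∈ D.base.getD v [], p < 24 := fun p hp => by
  have h := V.base_ok
  simp only [baseOK, Bool.and_eq_true, List.all_eq_true, List.mem_range, decide_eq_true_eq] at h
  exact h.1 v hv p hp

theorem seq_image (V : D.Valid) (he : D.IsSeq e) (j : Fin 8) :
    (e j : Equiv.Perm GolayPt) • setOf' (D.base.getD 0 []) = setOf' (D.base.getD (pH j) []) ∧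
    (e j : Equiv.Perm GolayPt) • setOf' (D.base.getD 4 []) = setOf' (D.base.getD (pT j) []) := by
  have h := V.base_ok
  simp only [baseOK, Bool.and_eq_true, List.all_eq_true, List.mem_range, decide_eq_true_eq, beq_iff_eq] at h
  have key : ∀ u v, u < 8 → v < 8 → imgMask (D.S.getD j 0) (D.base.getD u []) =
      imgMask (pack (List.range 24)) (D.base.getD v []) →
      (e j : Equiv.Perm GolayPt) • setOf' (D.base.getD u []) = setOf' (D.base.getD v []) := fun u v hu hv q => by
    apply mask_injective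
    rw [(mask_smul_list (he j) (base_lt V hu)).1, q,
      ← (mask_smul_list (x := 1) (fun p => by simpa using (ent_id ⟨idx p, idx_lt p⟩).symm) (base_lt V hv)).1]
    simp
  have hj := h.2 j j.2
  exact ⟨key 0 _ (by norm_num) (by unfold pH; omega) hj.1.2, key 4 _ (by norm_num) (by unfold pT; omega) hj.2⟩

theorem exists_translate (V : D.Valid) (he : D.IsSeq e) {hA k : ℕ} (hA' : hA < 253) (hk : k < 1152) :
    ∃ m : M, ∀ (j : Fin 8) (i : ℕ), D.same (get3 D.A hA) (D.niAt k) j i = true → D.Real i (m * e j) := by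
  obtain ⟨x, hx⟩ := exists_of_ok (V.A_ok hA hA')
  have hN := V.N_ok k hk
  obtain ⟨y, hy⟩ := exists_of_ok hN
  have hni : ∀ v, (D.niAt k).getD v [] = (D.base.getD v []).map (ent (get3 D.N k)) := fun v => by
    simp only [niAt, List.getD_eq_getElem?_getD, List.getElem?_map]
    cases D.base[v]? <;> rfl
  refine ⟨x * y, fun j i h => ?_⟩
  simp only [same, Bool.and_eq_true, beq_iff_eq] at h
  have hv1 : pH j < 8 := by unfold pH; omega
  have hv2 : pT j < 8 := by unfold pT; omega
  obtain ⟨e1, e2⟩ := seq_image V he j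
  constructor
  · rw [← h.1, hni, ← fm_mul (base_lt V hv1) hx hy, fm, fm, Subgroup.coe_mul, mul_smul, e1]
  · rw [← h.2, hni, ← fm_mul (base_lt V hv2) hx hy, fm, fm, Subgroup.coe_mul, mul_smul, e2]

theorem real_same {i : ℕ} {x y : M} (hx : D.Real i x) (hy : D.Real i y) :
    x⁻¹ * y ∈ stabOf (D.base.getD 0 []) ∧ x⁻¹ * y ∈ stabOf (D.base.getD 4 []) :=
  ⟨mem_stabOf.mpr (hx.1.trans hy.1.symm), mem_stabOf.mpr (hx.2.trans hy.2.symm)⟩

theorem good_of_real (hH : F.H = stabOf (D.base.getD 0 [])) (hK : F.K = stabOf (D.base.getD 4 []))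
    (l : Lifts F) {i : ℕ} {x y : M} (hx : D.Real i x) (hy : D.Real i y) (hg : l.Good x ∧ x ∈ F.H ⊔ F.K) :
    l.Good y ∧ y ∈ F.H ⊔ F.K := by
  obtain ⟨h1, h2⟩ := real_same hx hy
  rw [← hH] at h1
  rw [← hK] at h2
  refine ⟨l.good_congr h1 h2 hg.1, ?_⟩
  have := mul_mem hg.2 (Subgroup.mem_sup_left (T := F.K) h1)
  rwa [mul_inv_cancel_left] at this

theorem step_sound (V : D.Valid) (hH : F.H = stabOf (D.base.getD 0 [])) (hK : F.K = stabOf (D.base.getD 4 []))
    (he : D.IsSeq e) (R : Ring F e) {n : ℕ} {c c' : ℕ × ℕ} (I : D.Inv F n c) {s : ℕ × ℕ × ℕ × List ℕ}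
    (hs : D.step n c s = some c') : D.Inv F (n + 1) c' := by
  obtain ⟨hA, k, code, refs⟩ := s
  obtain ⟨l, hl⟩ := I.lift
  have hj : code % 8 < 8 := Nat.mod_lt _ (by norm_num)
  simp only [step] at hs
  split at hs
  · -- one closed chain
    split at hs
    next h =>
      simp only [Option.some.injEq] at hs
      subst hs
      simp only [Bool.and_eq_true, decide_eq_true_eq, List.all_eq_true, List.mem_range, Bool.or_eq_true,
        beq_iff_eq] at h
      obtain ⟨⟨⟨⟨⟨ha, hk⟩, hsame⟩, hh⟩, ht⟩, hall⟩ := h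
      obtain ⟨m, hm⟩ := exists_translate V he ha hk
      have hr : D.Real n (m * e ⟨code % 8, hj⟩) := hm _ _ hsame
      have hg : ∀ i : Fin 8, i ≠ ⟨code % 8, hj⟩ → l.Good (m * e i) ∧ m * e i ∈ F.H ⊔ F.K := fun i hi => by
        rcases hall i i.2 with h | ⟨h1, h2⟩
        · exact absurd (Fin.ext h) hi
        · exact hl _ h1 _ (hm i _ h2)
      have hmem : m * e ⟨code % 8, hj⟩ ∈ F.H ⊔ F.K := by
        obtain ⟨i, hi, hstep⟩ : ∃ i : Fin 8, i ≠ ⟨code % 8, hj⟩ ∧ (e i)⁻¹ * e ⟨code % 8, hj⟩ ∈ F.H ⊔ F.K := by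
          generalize (⟨code % 8, hj⟩ : Fin 8) = r
          have inv : ∀ {a b : Fin 8}, (e a)⁻¹ * e b ∈ F.H → (e b)⁻¹ * e a ∈ F.H ⊔ F.K := fun h => by
            simpa using inv_mem (Subgroup.mem_sup_left (T := F.K) h)
          fin_cases r
          · exact ⟨1, by decide, inv R.s01⟩
          · exact ⟨0, by decide, Subgroup.mem_sup_left R.s01⟩
          · exact ⟨3, by decide, inv R.s23⟩
          · exact ⟨2, by decide, Subgroup.mem_sup_left R.s23⟩
          · exact ⟨5, by decide, inv R.s45⟩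
          · exact ⟨4, by decide, Subgroup.mem_sup_left R.s45⟩
          · exact ⟨7, by decide, inv R.s67⟩
          · exact ⟨6, by decide, Subgroup.mem_sup_left R.s67⟩
        have := mul_mem (hg i hi).2 hstep
        simpa [mul_assoc] using this
      refine ⟨I.cH, I.cT, fun i hi => ?_, fun i hi => ?_, l, fun i hi x hx => ?_⟩
      · rcases Nat.lt_succ_iff_lt_or_eq.mp hi with h | rfl
        exacts [I.ids i h, ⟨hh, ht⟩]
      · rcases Nat.lt_succ_iff_lt_or_eq.mp hi with h | rfl
        exacts [I.real i h, ⟨_, hr⟩]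
      · rcases Nat.lt_succ_iff_lt_or_eq.mp hi with h | rfl
        · exact hl i h x hx
        · exact good_of_real hH hK l hr hx ⟨l.ring R m fun i hi => (hg i hi).1, hmem⟩
    next => simp at hs
  · -- a new vertex of the first kind
    split at hs
    next h =>
      simp only [Option.some.injEq] at hs
      subst hs
      simp only [Bool.and_eq_true, decide_eq_true_eq, beq_iff_eq] at h
      obtain ⟨⟨⟨⟨⟨⟨ha, hk⟩, hsame⟩, hh⟩, hc⟩, hq⟩, hqt⟩ := h
      obtain ⟨m, hm⟩ := exists_translate V he ha hk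
      have hr : D.Real n (m * e ⟨code % 8, hj⟩) := hm _ _ hsame
      obtain ⟨z, hz⟩ := I.real _ hq
      have hzm : z⁻¹ * (m * e ⟨code % 8, hj⟩) ∈ F.K := by
        rw [hK, mem_stabOf, hz.2, hr.2, tmask, tmask, hqt]
      have hmem : m * e ⟨code % 8, hj⟩ ∈ F.H ⊔ F.K := by
        have := mul_mem (hl _ hq z hz).2 (Subgroup.mem_sup_right (S := F.H) hzm)
        rwa [mul_inv_cancel_left] at this
      obtain ⟨l', hgood, hsave⟩ := l.adjustH (m * e ⟨code % 8, hj⟩)
      refine ⟨by show c.1 + 1 ≤ 253; omega, I.cT, fun i hi => ?_, fun i hi => ?_, l', fun i hi x hx => ?_⟩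
      · rcases Nat.lt_succ_iff_lt_or_eq.mp hi with h | rfl
        · exact ⟨Nat.lt_succ_of_lt (I.ids i h).1, (I.ids i h).2⟩
        · exact ⟨by show D.hid i < c.1 + 1; omega, hqt ▸ (I.ids _ hq).2⟩
      · rcases Nat.lt_succ_iff_lt_or_eq.mp hi with h | rfl
        exacts [I.real i h, ⟨_, hr⟩]
      · rcases Nat.lt_succ_iff_lt_or_eq.mp hi with h | rfl
        · refine ⟨(hsave x ?_).mpr (hl i h x hx).1, (hl i h x hx).2⟩
          rw [hH, mem_stabOf, hx.1, hr.1, hmask, hmask, hh]
          intro e'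
          have := (I.ids i h).1
          exact absurd (V.VH_inj _ (by omega) _ hc e') (by omega)
        · exact good_of_real hH hK l' hr hx ⟨hgood, hmem⟩
    next => simp at hs
  · -- a new vertex of the second kind
    split at hs
    next h =>
      simp only [Option.some.injEq] at hs
      subst hs
      simp only [Bool.and_eq_true, decide_eq_true_eq, beq_iff_eq] at h
      obtain ⟨⟨⟨⟨⟨⟨ha, hk⟩, hsame⟩, ht⟩, hc⟩, hq⟩, hqh⟩ := h
      obtain ⟨m, hm⟩ := exists_translate V he ha hk
      have hr : D.Real n (m * e ⟨code % 8, hj⟩) := hm _ _ hsame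
      obtain ⟨z, hz⟩ := I.real _ hq
      have hzm : z⁻¹ * (m * e ⟨code % 8, hj⟩) ∈ F.H := by
        rw [hH, mem_stabOf, hz.1, hr.1, hmask, hmask, hqh]
      have hmem : m * e ⟨code % 8, hj⟩ ∈ F.H ⊔ F.K := by
        have := mul_mem (hl _ hq z hz).2 (Subgroup.mem_sup_left (T := F.K) hzm)
        rwa [mul_inv_cancel_left] at this
      obtain ⟨l', hgood, hsave⟩ := l.adjustK (m * e ⟨code % 8, hj⟩)
      refine ⟨I.cH, by show c.2 + 1 ≤ 1771; omega, fun i hi => ?_, fun i hi => ?_, l', fun i hi x hx => ?_⟩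
      · rcases Nat.lt_succ_iff_lt_or_eq.mp hi with h | rfl
        · exact ⟨(I.ids i h).1, Nat.lt_succ_of_lt (I.ids i h).2⟩
        · exact ⟨hqh ▸ (I.ids _ hq).1, by show D.tid i < c.2 + 1; omega⟩
      · rcases Nat.lt_succ_iff_lt_or_eq.mp hi with h | rfl
        exacts [I.real i h, ⟨_, hr⟩]
      · rcases Nat.lt_succ_iff_lt_or_eq.mp hi with h | rfl
        · refine ⟨(hsave x ?_).mpr (hl i h x hx).1, (hl i h x hx).2⟩
          rw [hK, mem_stabOf, hx.2, hr.2, tmask, tmask, ht]
          intro e'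
          have := (I.ids i h).2
          exact absurd (V.VT_inj _ (by omega) _ hc e') (by omega)
        · exact good_of_real hH hK l' hr hx ⟨hgood, hmem⟩
    next => simp at hs

theorem run_sound (V : D.Valid) (hH : F.H = stabOf (D.base.getD 0 [])) (hK : F.K = stabOf (D.base.getD 4 []))
    (he : D.IsSeq e) (R : Ring F e) : ∀ {l : List (ℕ × ℕ × ℕ × List ℕ)} {n : ℕ} {c c' : ℕ × ℕ},
    D.Inv F n c → D.run n c l = some c' → D.Inv F (n + l.length) c'
  | [], n, c, c', I, h => by
    simp only [run, Option.some.injEq] at h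
    subst h
    simpa using I
  | s :: l, n, c, c', I, h => by
    simp only [run] at h
    split at h
    next c'' hc =>
      have := run_sound V hH hK he R (step_sound V hH hK he R I hc) h
      simpa [Nat.add_comm, Nat.add_left_comm] using this
    next => simp at h

theorem inv_zero (V : D.Valid) (hH : F.H = stabOf (D.base.getD 0 [])) (hK : F.K = stabOf (D.base.getD 4 []))
    (h0 : D.hid 0 = 0 ∧ D.tid 0 = 0) (h1 : get2 D.VH 0 = imgMask (pack (List.range 24)) (D.base.getD 0 []))
    (h2 : get2 D.VT 0 = imgMask (pack (List.range 24)) (D.base.getD 4 [])) : D.Inv F 1 (1, 1) := by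
  have one : ∀ v < 8, fm (D.base.getD v []) 1 = imgMask (pack (List.range 24)) (D.base.getD v []) := fun v hv =>
    (mask_smul_list (x := 1) (fun p => by simpa using (ent_id ⟨idx p, idx_lt p⟩).symm) (base_lt V hv)).1
  have hr : D.Real 0 1 := ⟨by rw [one 0 (by norm_num), hmask, h0.1, h1], by rw [one 4 (by norm_num), tmask, h0.2, h2]⟩
  obtain ⟨l₀⟩ := exists_lifts F
  obtain ⟨l, hg, -⟩ := l₀.adjustH 1
  refine ⟨by show 1 ≤ 253; norm_num, by show 1 ≤ 1771; norm_num, fun i hi => ?_, fun i hi => ?_,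
    l, fun i hi x hx => ?_⟩ <;> obtain rfl : i = 0 := by omega
  · exact ⟨by show D.hid 0 < 1; omega, by show D.tid 0 < 1; omega⟩
  · exact ⟨1, hr⟩
  · exact good_of_real hH hK l hr hx ⟨hg, one_mem _⟩

end Tabs

end Cfsg.Agent.MTwentyThree.Amal
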