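import Cfsg.Agent.Lib.Spor.MTwentyThreeAmal.TablesGen

/-!
The checks of the four generators.
-/

set_option autoImplicit false
set_option maxRecDepth 200000

namespace Cfsg.Agent.MTwentyThree.Amal.Data

theorem verts5 : gen5.vertsOK tabs = true := by decide +kernel

theorem cycle5 : gen5.cyc = true := by decide +kernel

theorem edges5_0 : (List.range 1771).all (fun i => gen5.edgeOK tabs (0 + i)) = true := by decide +kernel

theorem edges5_1 : (List.range 1771).all (fun i => gen5.edgeOK tabs (1771 + i)) = true := by decide +kernel

theorem edges5_2 : (List.range 1771).all (fun i => gen5.edgeOK tabs (3542 + i)) = true := by decide +kernel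

theorem edges5_3 : (List.range 1771).all (fun i => gen5.edgeOK tabs (5313 + i)) = true := by decide +kernel

theorem edges5_4 : (List.range 1771).all (fun i => gen5.edgeOK tabs (7084 + i)) = true := by decide +kernel

theorem verts7 : gen7.vertsOK tabs = true := by decide +kernel

theorem cycle7 : gen7.cyc = true := by decide +kernel

theorem edges7_0 : (List.range 1771).all (fun i => gen7.edgeOK tabs (0 + i)) = true := by decide +kernel

theorem edges7_1 : (List.range 1771).all (fun i => gen7.edgeOK tabs (1771 + i)) = true := by decide +kernel

theorem edges7_2 : (List.range 1771).all (fun i => gen7.edgeOK tabs (3542 + i)) = true := by decide +kernel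

theorem edges7_3 : (List.range 1771).all (fun i => gen7.edgeOK tabs (5313 + i)) = true := by decide +kernel

theorem edges7_4 : (List.range 1771).all (fun i => gen7.edgeOK tabs (7084 + i)) = true := by decide +kernel

theorem verts11 : gen11.vertsOK tabs = true := by decide +kernel

theorem cycle11 : gen11.cyc = true := by decide +kernel

theorem edges11_0 : (List.range 1771).all (fun i => gen11.edgeOK tabs (0 + i)) = true := by decide +kernel

theorem edges11_1 : (List.range 1771).all (fun i => gen11.edgeOK tabs (1771 + i)) = true := by decide +kernel

theorem edges11_2 : (List.range 1771).all (fun i => gen11.edgeOK tabs (3542 + i)) = true := by decide +kernel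

theorem edges11_3 : (List.range 1771).all (fun i => gen11.edgeOK tabs (5313 + i)) = true := by decide +kernel

theorem edges11_4 : (List.range 1771).all (fun i => gen11.edgeOK tabs (7084 + i)) = true := by decide +kernel

theorem verts23 : gen23.vertsOK tabs = true := by decide +kernel

theorem cycle23 : gen23.cyc = true := by decide +kernel

theorem edges23_0 : (List.range 1771).all (fun i => gen23.edgeOK tabs (0 + i)) = true := by decide +kernel

theorem edges23_1 : (List.range 1771).all (fun i => gen23.edgeOK tabs (1771 + i)) = true := by decide +kernel

theorem edges23_2 : (List.range 1771).all (fun i => gen23.edgeOK tabs (3542 + i)) = true := by decide +kernel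

theorem edges23_3 : (List.range 1771).all (fun i => gen23.edgeOK tabs (5313 + i)) = true := by decide +kernel

theorem edges23_4 : (List.range 1771).all (fun i => gen23.edgeOK tabs (7084 + i)) = true := by decide +kernel


end Cfsg.Agent.MTwentyThree.Amal.Data
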