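import Cfsg.Agent.Lib.Spor.MTwentyThreeAmal.Check

/-!
The packed elements of the group of order nine shared by the three subgroups.
-/

set_option autoImplicit false

namespace Cfsg.Agent.MTwentyThree.Amal.Data

def nineL : List ℕ := [984818244535754528103549039458486304, 975673096037777971671381527873751758, 974467320294654418896005643247929350, 956950926252449062776323430100142567, 965079654391493250314764001240205781, 983219400411792232561223758721958081, 955451530783766425191358412595054836, 981628261068738222799695312537043638, 963189569648650398191798318100038287]

end Cfsg.Agent.MTwentyThree.Amal.Data
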