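import Cfsg.Agent.Lib.Spor.MTwentyThreeAmal.Elems
import Cfsg.Agent.Lib.Spor.MTwentyThreeAmal.TablesNine
import Cfsg.Agent.Lib.Spor.MTwentyThreeAmal.TablesValid
import Cfsg.Agent.Lib.Spor.MTwentyThreeAmal.GenValid
import Cfsg.Agent.Lib.Spor.MTwentyThreeAmal.StepsOne
import Cfsg.Agent.Lib.Spor.MTwentyThreeAmal.StepsTwo
import Cfsg.Agent.Lib.Spor.MTwentyThreeAmal.StepsThree
import Cfsg.Agent.Lib.Spor.MTwentyThreeAmal.StepsFour
import Cfsg.Agent.Lib.Spor.MTwentyThreeAmal.StepsFive
import Cfsg.Agent.Lib.Spor.MTwentyThreeAmal.StepsSix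
import Cfsg.Agent.Lib.Spor.MTwentyThreeAmal.StepsSeven
import Cfsg.Agent.Lib.Spor.MTwentyThreeAmal.StepsEight
import Cfsg.Agent.Lib.Spor.MTwentyThreeAmal.StepsNine
import Cfsg.Agent.Lib.Spor.MTwentyThreeAmal.StepsTen
import Cfsg.Agent.Lib.Spor.MTwentyThreeAmal.StepsEleven
import Cfsg.Agent.Lib.Spor.MTwentyThreeAmal.StepsTwelve
import Cfsg.Agent.Lib.Spor.MTwentyThreeAmal.StepsThirteen
import Cfsg.Agent.Lib.Spor.MTwentyThreeAmal.StepsFourteen
import Cfsg.Agent.Lib.Spor.MTwentyThreeAmal.StepsFifteen

/-!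
Compatible homomorphisms on the stabiliser of a heptad, of a triple in it and the normaliser of a group of order
nine extend to the Mathieu group of degree twenty-three.
-/

set_option autoImplicit false
set_option maxRecDepth 200000

namespace Cfsg.Agent.MTwentyThree.Amal

open Cfsg Cfsg.Agent.Spor Cfsg.Agent.Local.FS.Mathieu Data

/-- The stabiliser of the heptad. -/
def HM : Subgroup M := stabOf (baseL.getD 0 [])

/-- The stabiliser of the triple. -/
def KM : Subgroup M := stabOf (baseL.getD 4 [])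

/-- The group of order nine, as a set. -/
def nineSet : Set M := {x | ∃ a ∈ nineL, toM a = x}

/-- The normaliser of the group of order nine. -/
def LM : Subgroup M := Subgroup.normalizer nineSet

theorem nine_check : nineL.all okPerm = true ∧
    (List.range 8).all (fun j => nineL.all fun a => nineL.any fun b =>
      entEq (fun i => ent (seqL.getD j 0) (ent a i)) (fun i => ent b (ent (seqL.getD j 0) i))) = true := by
  decide +kernel

theorem valid : tabs.Valid where
  A_ok := fun i hi => List.all_eq_true.mp repsA_ok i (List.mem_range.mpr hi)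
  N_ok := fun k hk => by
    have key : ∀ q, (List.range 144).all (fun j => tabs.factOK (144 * q + j)) = true → 144 * q ≤ k →
        k < 144 * q + 144 → tabs.factOK k = true := fun q h h1 h2 => by
      have := List.all_eq_true.mp h (k - 144 * q) (List.mem_range.mpr (by omega))
      rwa [show 144 * q + (k - 144 * q) = k by omega] at this
    rcases (by omega : k < 144 ∨ (144 ≤ k ∧ k < 288) ∨ (288 ≤ k ∧ k < 432) ∨ (432 ≤ k ∧ k < 576) ∨
      (576 ≤ k ∧ k < 720) ∨ (720 ≤ k ∧ k < 864) ∨ (864 ≤ k ∧ k < 1008) ∨ 1008 ≤ k) with h | h | h | h | h | h | h | h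
    · exact key 0 fact0 (by omega) (by omega)
    · exact key 1 fact1 (by omega) (by omega)
    · exact key 2 fact2 (by omega) (by omega)
    · exact key 3 fact3 (by omega) (by omega)
    · exact key 4 fact4 (by omega) (by omega)
    · exact key 5 fact5 (by omega) (by omega)
    · exact key 6 fact6 (by omega) (by omega)
    · exact key 7 fact7 (by omega) (by omega)
  base_ok := base_check
  VH_inj := inj_of_ok injH
  VT_inj := inj_of_ok injT

theorem seq_ok : ∀ j : Fin 8, okPerm (seqL.getD j 0) = true := by decide +kernel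

/-- The chain. -/
noncomputable def seqE (j : Fin 8) : M := toM (seqL.getD j 0)

theorem seqE_spec : tabs.IsSeq seqE := fun j => toM_spec (seq_ok j)

theorem seqE_mem_LM (j : Fin 8) : seqE j ∈ LM := by
  have hsub : ∀ x ∈ nineSet, seqE j * x * (seqE j)⁻¹ ∈ nineSet := by
    rintro x ⟨a, ha, rfl⟩
    obtain ⟨b, hb, hab⟩ := List.any_eq_true.mp
      (List.all_eq_true.mp (List.all_eq_true.mp nine_check.2 j (List.mem_range.mpr j.2)) a ha)
    have ok := List.all_eq_true.mp nine_check.1
    exact ⟨b, hb, eq_mul_inv_of_mul_eq (toM_comm (seq_ok j) (ok a ha) (ok b hb) (seq_ok j) hab).symm⟩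
  refine Subgroup.mem_normalizer_iff_conj_image_eq.mpr ?_
  have hfin : nineSet.Finite := (nineL.finite_toSet.image toM).subset fun y ⟨a, ha, e⟩ => ⟨a, ha, e⟩
  refine Set.eq_of_subset_of_ncard_le ?_ ?_ hfin
  · rintro _ ⟨y, hy, rfl⟩
    exact hsub y hy
  · exact le_of_eq (Set.ncard_image_of_injective _ (MulAut.conj (seqE j)).injective).symm

theorem step_mem (i j : Fin 8) :
    (pH i = pH j → (seqE i)⁻¹ * seqE j ∈ HM) ∧ (pT i = pT j → (seqE i)⁻¹ * seqE j ∈ KM) := by
  obtain ⟨a1, a2⟩ := Tabs.seq_image valid seqE_spec i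
  obtain ⟨b1, b2⟩ := Tabs.seq_image valid seqE_spec j
  constructor <;> intro h
  · refine mem_stabOf.mpr ?_
    show mask _ = mask _
    rw [show baseL.getD 0 [] = tabs.base.getD 0 [] from rfl, a1, b1, h]
  · refine mem_stabOf.mpr ?_
    show mask _ = mask _
    rw [show baseL.getD 4 [] = tabs.base.getD 4 [] from rfl, a2, b2, h]

theorem start_check : tabs.hid 0 = 0 ∧ tabs.tid 0 = 0 ∧
    get2 tabs.VH 0 = imgMask (pack (List.range 24)) (tabs.base.getD 0 []) ∧
    get2 tabs.VT 0 = imgMask (pack (List.range 24)) (tabs.base.getD 4 []) := by decide +kernel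

theorem gens_ok : ∀ g ∈ [gen5, gen7, gen11, gen23], g.OK tabs := by
  have key : ∀ (g : Gen),
      (List.range 1771).all (fun i => g.edgeOK tabs (0 + i)) = true →
      (List.range 1771).all (fun i => g.edgeOK tabs (1771 + i)) = true →
      (List.range 1771).all (fun i => g.edgeOK tabs (3542 + i)) = true →
      (List.range 1771).all (fun i => g.edgeOK tabs (5313 + i)) = true →
      (List.range 1771).all (fun i => g.edgeOK tabs (7084 + i)) = true →
      ∀ i < 8855, g.edgeOK tabs i = true := fun g h0 h1 h2 h3 h4 i hi => by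
    have k : ∀ b, (List.range 1771).all (fun i => g.edgeOK tabs (b + i)) = true → b ≤ i → i < b + 1771 →
        g.edgeOK tabs i = true := fun b h h1 h2 => by
      have := List.all_eq_true.mp h (i - b) (List.mem_range.mpr (by omega))
      rwa [show b + (i - b) = i by omega] at this
    rcases (by omega : i < 1771 ∨ (1771 ≤ i ∧ i < 3542) ∨ (3542 ≤ i ∧ i < 5313) ∨ (5313 ≤ i ∧ i < 7084) ∨
      7084 ≤ i) with h | h | h | h | h
    · exact k 0 h0 (by omega) (by omega)
    · exact k 1771 h1 (by omega) (by omega)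
    · exact k 3542 h2 (by omega) (by omega)
    · exact k 5313 h3 (by omega) (by omega)
    · exact k 7084 h4 (by omega) (by omega)
  intro g hg
  simp only [List.mem_cons, List.not_mem_nil, or_false] at hg
  rcases hg with rfl | rfl | rfl | rfl
  · exact ⟨verts5, cycle5, key _ edges5_0 edges5_1 edges5_2 edges5_3 edges5_4⟩
  · exact ⟨verts7, cycle7, key _ edges7_0 edges7_1 edges7_2 edges7_3 edges7_4⟩
  · exact ⟨verts11, cycle11, key _ edges11_0 edges11_1 edges11_2 edges11_3 edges11_4⟩
  · exact ⟨verts23, cycle23, key _ edges23_0 edges23_1 edges23_2 edges23_3 edges23_4⟩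

/-- Compatible homomorphisms extend. -/
theorem exists_extension {G : Type*} [Group G] (F : Frame M G) (hH : F.H = HM) (hK : F.K = KM)
    (hL : ∀ j, seqE j ∈ F.L) : ∃ f : M →* G, (∀ a : F.H, f a = F.fH a) ∧ ∀ a : F.K, f a = F.fK a := by
  have R : Ring F seqE := by
    refine ⟨hL, ?_, ?_, ?_, ?_, ?_, ?_, ?_, ?_⟩
    · rw [hH]; exact (step_mem 0 1).1 rfl
    · rw [hK]; exact (step_mem 1 2).2 rfl
    · rw [hH]; exact (step_mem 2 3).1 rfl
    · rw [hK]; exact (step_mem 3 4).2 rfl
    · rw [hH]; exact (step_mem 4 5).1 rfl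
    · rw [hK]; exact (step_mem 5 6).2 rfl
    · rw [hH]; exact (step_mem 6 7).1 rfl
    · rw [hK]; exact (step_mem 7 0).2 rfl
  have hs := fun {l : List (ℕ × ℕ × ℕ × List ℕ)} {n : ℕ} {c c' : ℕ × ℕ} (I : tabs.Inv F n c)
      (h : tabs.run n c l = some c') => Tabs.run_sound valid hH hK seqE_spec R I h
  have I0 := Tabs.inv_zero (F := F) valid hH hK ⟨start_check.1, start_check.2.1⟩ start_check.2.2.1 start_check.2.2.2
  have I1 := hs I0 run0
  rw [length0] at I1
  have I2 := hs I1 run1
  rw [length1] at I2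
  have I3 := hs I2 run2
  rw [length2] at I3
  have I4 := hs I3 run3
  rw [length3] at I4
  have I5 := hs I4 run4
  rw [length4] at I5
  have I6 := hs I5 run5
  rw [length5] at I6
  have I7 := hs I6 run6
  rw [length6] at I7
  have I8 := hs I7 run7
  rw [length7] at I8
  have I9 := hs I8 run8
  rw [length8] at I9
  have I10 := hs I9 run9
  rw [length9] at I10
  have I11 := hs I10 run10
  rw [length10] at I11
  have I12 := hs I11 run11
  rw [length11] at I12
  have I13 := hs I12 run12
  rw [length12] at I13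
  have I14 := hs I13 run13
  rw [length13] at I14
  have I15 := hs I14 run14
  rw [length14] at I15
  exact exists_hom_of_inv I15 _ gens_ok rfl

end Cfsg.Agent.MTwentyThree.Amal
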