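import Cfsg.Agent.Lib.Spor.MTwentyThreeAmal.Check

/-!
Injectivity of a table from an increasing rearrangement.
-/

set_option autoImplicit false

namespace Cfsg.Agent.MTwentyThree.Amal

/-- The table read along a rearrangement increases, and the rearrangement has a right inverse. -/
def injOK (T P R : List ℕ) (n : ℕ) : Bool :=
  ((List.range n).all fun i => decide (get2 R i < n) && get2 P (get2 R i) == i) &&
  (List.range (n - 1)).all fun k => decide (get2 T (get2 P k) < get2 T (get2 P (k + 1)))

theorem inj_of_ok {T P R : List ℕ} {n : ℕ} (h : injOK T P R n = true) :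
    ∀ i < n, ∀ j < n, get2 T i = get2 T j → i = j := by
  simp only [injOK, Bool.and_eq_true, List.all_eq_true, List.mem_range, decide_eq_true_eq, beq_iff_eq] at h
  obtain ⟨hR, hs⟩ := h
  have mono : ∀ k l, k < l → l < n → get2 T (get2 P k) < get2 T (get2 P l) := by
    intro k l hkl
    induction l with
    | zero => omega
    | succ l ih =>
      intro hl
      rcases Nat.lt_succ_iff_lt_or_eq.mp hkl with h' | rfl
      · exact (ih h' (by omega)).trans (hs l (by omega))
      · exact hs k (by omega)
  intro i hi j hj e
  obtain ⟨hi1, hi2⟩ := hR i hi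
  obtain ⟨hj1, hj2⟩ := hR j hj
  rcases lt_trichotomy (get2 R i) (get2 R j) with h | h | h
  · have := mono _ _ h hj1
    rw [hi2, hj2] at this
    omega
  · rw [← hi2, ← hj2, h]
  · have := mono _ _ h hi1
    rw [hi2, hj2] at this
    omega

end Cfsg.Agent.MTwentyThree.Amal
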