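import Cfsg.Agent.Lib.Spor.MTwentyThreeAmal.Tables

/-!
The tables assembled.
-/

set_option autoImplicit false
set_option maxRecDepth 200000

namespace Cfsg.Agent.MTwentyThree.Amal.Data

/-- The tables. -/
def tabs : Tabs where
  A := repsA
  N := repsN
  base := baseL
  S := seqL
  VH := vertH
  VT := vertT
  ED := edges

end Cfsg.Agent.MTwentyThree.Amal.Data
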